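import Mathlib
import Groth.Prelude.Def_ClSub2
import Groth.Prelude.Def_Pi1
import Groth.Agent.Hartogs.Basic
import Groth.Agent.ParaFX.Ufd
import Groth.Agent.PointBlow.Main
import Groth.Agent.OmegaLib.IdealMod
import Groth.Agent.H23.RedSub
import Groth.Agent.ProjNorm6.Basic

/-!
# Relatively generated ideal sheaves and the fibre over a point
-/

set_option autoImplicit false
set_option linter.style.haveILetI false
set_option backward.isDefEq.respectTransparency false
set_option backward.isDefEq.respectTransparency.types false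
set_option maxHeartbeats 400000

universe u

open CategoryTheory CategoryTheory.Limits AlgebraicGeometry TopologicalSpace IsLocalRing

noncomputable section

namespace Groth.Agent.ExcVan

variable {X Y : Scheme.{u}} [IsIntegral X] [IsIntegral Y] [IsLocallyNoetherian X]
  (hnorm : Pi1.IsNormalScheme X) {P : X} (hPc : IsClosed ({P} : Set X))
  (hP : ¬ IsRegularLocalRing (X.presheaf.stalk P)) (f : Y ⟶ X)
  (hiso : IsIso (f ∣_ ⟨({P} : Set X)ᶜ, hPc.isOpen_compl⟩))
include hnorm hP hiso

/-- A function on the preimage of an open of the normal surface is a pullback. -/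
theorem exists_app_eq (U : X.Opens) (a : Γ(Y, f ⁻¹ᵁ U)) : ∃ t : Γ(X, U), f.app U t = a := by
  let W : X.Opens := ⟨({P} : Set X)ᶜ, hPc.isOpen_compl⟩
  haveI : IsDomain (X.presheaf.stalk P) := (hnorm P).1
  haveI : IsIntegrallyClosed (X.presheaf.stalk P) := (hnorm P).2
  have hd : (2 : WithBot ℕ∞) ≤ ringKrullDim (X.presheaf.stalk P) := by
    have h1 : ¬ ringKrullDim (X.presheaf.stalk P) ≤ 1 := fun h =>
      hP (ProjNorm6.isRegularLocalRing_of_dim_le_one _ h)
    generalize ringKrullDim (X.presheaf.stalk P) = d at h1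
    induction d with
    | bot => exact absurd bot_le h1
    | coe n =>
      replace h1 : (1 : ℕ∞) < n := WithBot.coe_lt_coe.1 (lt_of_not_ge h1)
      exact WithBot.coe_le_coe.2 (show (2 : ℕ∞) ≤ n from Order.add_one_le_of_lt h1)
  have hdepth : ∀ x : X, x ∉ W → (2 : ℕ∞) ≤ LocCoh.depth (X.presheaf.stalk x) (X.presheaf.stalk x) := fun x hx => by
    obtain rfl : x = P := not_not.1 hx
    exact ParaFX.two_le_depth_of_normal _ hd
  by_cases hU : Nonempty (f ⁻¹ᵁ (U ⊓ W) : Y.Opens)
  · haveI : IsIso (f ∣_ (U ⊓ W)) := PointBlow.isIso_restrict_mono f (U := W) inf_le_right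
    haveI : IsIso (f.app (U ⊓ W)) := by
      haveI h : IsIso ((f ∣_ (U ⊓ W)).appTop) := inferInstance
      rw [morphismRestrict_appTop] at h
      have hb : ∀ {A B C : CommRingCat.{u}} (g₁ : A ⟶ B) (g₂ : B ⟶ C), IsIso (g₁ ≫ g₂) → IsIso g₂ → IsIso g₁ :=
        fun g₁ g₂ _ _ => IsIso.of_isIso_comp_right g₁ g₂
      have h' : IsIso (f.app ((U ⊓ W).ι ''ᵁ ⊤)) := hb _ _ h inferInstance
      have he : ∀ T : X.Opens, T = U ⊓ W → IsIso (f.app T) → IsIso (f.app (U ⊓ W)) := fun T hT hT' => hT ▸ hT'
      exact he _ (U ⊓ W).ι_image_top h'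
    obtain ⟨t', ht'⟩ := (ConcreteCategory.isIso_iff_bijective (f.app (U ⊓ W))).1 inferInstance |>.2
      (Y.presheaf.map (homOfLE (f.preimage_mono inf_le_left : f ⁻¹ᵁ (U ⊓ W) ≤ f ⁻¹ᵁ U)).op a)
    obtain ⟨t, ht⟩ := (Hartogs.restrict_bijective W hdepth U).2 t'
    refine ⟨t, map_injective_of_isIntegral Y (homOfLE (f.preimage_mono inf_le_left : f ⁻¹ᵁ (U ⊓ W) ≤ f ⁻¹ᵁ U)) ?_⟩
    rw [← ht', ← ht]
    exact (ConcreteCategory.congr_hom (f.naturality (homOfLE (inf_le_left : U ⊓ W ≤ U)).op) t).symm
  · refine ⟨0, ?_⟩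
    suffices h : f ⁻¹ᵁ U = ⊥ by
      haveI : Subsingleton Γ(Y, f ⁻¹ᵁ U) := by
        rw [h]; infer_instance
      exact Subsingleton.elim _ _
    refine Opens.ext (Set.eq_empty_iff_forall_notMem.2 fun y hy => hU ?_)
    have hgen : f (genericPoint Y) ∈ U := 
      ((genericPoint_specializes y).map f.base.hom.continuous).mem_open U.isOpen hy
    refine ⟨⟨genericPoint Y, hgen, fun hg => hP ?_⟩⟩
    haveI hWne : Nonempty (f ⁻¹ᵁ W : Y.Opens) := by
      haveI : IsIso (f ∣_ W) := hiso
      have hne : (W : Set X).Nonempty := by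
        by_contra hc
        have hX : ∀ x : X, x = P := fun x => not_not.1 fun hx => hc ⟨x, hx⟩
        have hPg : genericPoint X = P := hX _
        refine hP ?_
        rw [← hPg]
        exact (inferInstanceAs (IsRegularLocalRing X.functionField))
      obtain ⟨x, hx⟩ := hne
      obtain ⟨y', -⟩ := (f ∣_ W).homeomorph.surjective ⟨x, hx⟩
      exact ⟨y'⟩
    obtain ⟨⟨y', hy'⟩⟩ := hWne
    exact absurd hg (((genericPoint_specializes y').map f.base.hom.continuous).mem_open W.isOpen hy')

/-- An ideal sheaf generated by global sections over the base lies in the ideal of the fibre. -/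
theorem le_comap (V : Y.IdealSheafData) (hPV : P ∈ f.base '' (V.support : Set Y))
    (hfree : Epi ((Scheme.Modules.pullbackPushforwardAdjunction f).counit.app (ClSub.idealMod V))) :
    V ≤ (Scheme.IdealSheafData.vanishingIdeal ⟨{P}, hPc⟩).comap f := by
  set I := Scheme.IdealSheafData.vanishingIdeal (⟨{P}, hPc⟩ : Closeds X) with hI
  set J := I.comap f with hJ
  let h : ClSub.idealMod V ⟶ ClSub.quotMod J := ClSub.idealModι V ≫ ClSub.toSubscheme J
  obtain ⟨y₀, hy₀, hy₀P⟩ := hPV
  have key : (Scheme.Modules.pushforward f).map h = 0 := by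
    ext U s
    change J.subschemeι.app (f ⁻¹ᵁ U) (OmegaSh.idealSect V (f ⁻¹ᵁ U) s) = 0
    obtain ⟨t, ht⟩ := exists_app_eq hnorm hPc hP f hiso U (OmegaSh.idealSect V (f ⁻¹ᵁ U) s)
    rw [← ht]
    have ht0 : I.subschemeι.app U t = 0 := by
      haveI : IsReduced I.subscheme := H23.RedSub.isReduced_vanishingIdeal _
      rw [← basicOpen_eq_bot_iff, ← Scheme.preimage_basicOpen]
      refine Opens.ext (Set.eq_empty_iff_forall_notMem.2 fun q hq => ?_)
      have hqP : I.subschemeι q = P := by
        have h' : I.subschemeι q ∈ (I.support : Set X) := I.range_subschemeι ▸ Set.mem_range_self q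
        have hs : (I.support : Set X) = {P} :=
          rfl
        rw [hs] at h'
        exact h'
      have hyt : y₀ ∈ Y.basicOpen (f.app U t) := by
        rw [← Scheme.preimage_basicOpen]
        change f y₀ ∈ X.basicOpen t
        rw [show f y₀ = I.subschemeι q from hy₀P.trans hqP.symm]
        exact hq
      obtain ⟨p, hp⟩ : y₀ ∈ Set.range V.subschemeι := V.range_subschemeι ▸ hy₀
      have hb : V.subscheme.basicOpen (V.subschemeι.app _ (f.app U t)) = ⊥ := by
        rw [ht, OmegaLib.subschemeι_app_idealSect, Scheme.basicOpen_zero]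
      rw [← Scheme.preimage_basicOpen] at hb
      have : p ∈ (⊥ : V.subscheme.Opens) := hb ▸ (show V.subschemeι p ∈ Y.basicOpen (f.app U t) from hp ▸ hyt)
      exact this
    have hle : I.subschemeι.ker ≤ (J.subschemeι ≫ f).ker := by
      rw [Scheme.IdealSheafData.ker_subschemeι, ← Scheme.IdealSheafData.map_ker, Scheme.IdealSheafData.ker_subschemeι]
      exact I.le_map_comap f
    have hfac := IsClosedImmersion.lift_fac I.subschemeι (J.subschemeι ≫ f) hle
    have hz : (IsClosedImmersion.lift I.subschemeι (J.subschemeι ≫ f) hle ≫ I.subschemeι).app U t = 0 := by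
      rw [Scheme.Hom.comp_app, CommRingCat.comp_apply, ht0, map_zero]
    rw [Scheme.Hom.congr_app hfac, Scheme.Hom.comp_app] at hz
    simp only [CommRingCat.comp_apply] at hz
    exact (ConcreteCategory.isIso_iff_bijective (J.subscheme.presheaf.map _)).1 inferInstance |>.1
      (hz.trans (map_zero _).symm)
  have h0 : h = 0 := by
    rw [← cancel_epi ((Scheme.Modules.pullbackPushforwardAdjunction f).counit.app (ClSub.idealMod V)), comp_zero]
    have hn := (Scheme.Modules.pullbackPushforwardAdjunction f).counit.naturality h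
    simp only [Functor.comp_map, Functor.id_map, key, Functor.map_zero, zero_comp] at hn
    exact hn.symm
  intro U a ha
  obtain ⟨k, hk⟩ := OmegaLib.exists_of_mem V U a ha
  rw [← J.ker_subschemeι_app, RingHom.mem_ker, ← hk]
  exact congr(($h0).app U.1 k)

end Groth.Agent.ExcVan
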