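import Mathlib
import Groth.Agent.PointBlow.Invertible
import Groth.Agent.IdSheafPow.Basic
import Groth.Agent.Lib.ZMTIso
import Groth.Agent.S5094
import Groth.Agent.SurfSeq.Stalks
import Groth.Agent.RegRes.Base
import Groth.Prelude.Def_Pi1

/-!
# Exceptional Cartier divisors inside the thickened fibres
-/

set_option autoImplicit false
set_option linter.style.haveILetI false
set_option linter.unusedSectionVars false
set_option backward.isDefEq.respectTransparency false
set_option backward.isDefEq.respectTransparency.types false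
set_option maxHeartbeats 400000

universe u

open CategoryTheory CategoryTheory.Limits AlgebraicGeometry TopologicalSpace IsLocalRing
open Groth.Agent.H23.StalkIdeal Groth.Agent.PointBlow

noncomputable section

namespace Groth.Agent.ExcVan

/-- The fibre over a singular normal point of a modification has no isolated point. -/
theorem exists_generization {X Y : Scheme.{u}} [IsIntegral X] [IsIntegral Y] [IsNoetherian Y]
    (hnorm : Pi1.IsNormalScheme X) {P : X} (hPc : IsClosed ({P} : Set X))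
    (hP : ¬ IsRegularLocalRing (X.presheaf.stalk P)) (f : Y ⟶ X) [IsProper f]
    (hregY : ∀ y : Y, IsRegularLocalRing (Y.presheaf.stalk y))
    (hbir : IsIso (f.stalkMap (genericPoint Y))) {y : Y} (hy : f y = P) (hyc : IsClosed ({y} : Set Y)) :
    ∃ z : Y, z ⤳ y ∧ z ≠ y ∧ f z = P := by
  classical
  by_contra hcon
  push Not at hcon
  have hF : IsClosed (f ⁻¹' {P}) := hPc.preimage f.continuous
  obtain ⟨S, hSfin, hSc, hSi, hSU⟩ := NoetherianSpace.exists_finite_set_isClosed_irreducible hF
  have hone : ∀ s ∈ S, y ∈ s → s = {y} := fun s hs hys => by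
    obtain ⟨η, hη⟩ := QuasiSober.sober (hSi s hs) (hSc s hs)
    have h1 : η ⤳ y := hη.specializes hys
    have h2 : f η = P := by
      have : η ∈ f ⁻¹' {P} := by rw [hSU]; exact ⟨s, hs, hη.mem⟩
      exact this
    have h3 : η = y := by
      by_contra hne
      exact hcon η h1 hne h2
    rw [← hη.def, h3, hyc.closure_eq]
  let C : Set Y := ⋃₀ {s ∈ S | y ∉ s}
  have hC : IsClosed C := by
    show IsClosed (⋃₀ {s ∈ S | y ∉ s})
    rw [Set.sUnion_eq_biUnion]
    exact (hSfin.subset fun _ h => h.1).isClosed_biUnion fun s hs => hSc s hs.1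
  have hopen : IsOpen ({⟨y, Set.mem_singleton (f y)⟩} : Set ↥(f ⁻¹' {f y})) := by
    refine isOpen_induced_iff.2 ⟨Cᶜ, hC.isOpen_compl, ?_⟩
    ext ⟨z, hz⟩
    simp only [Set.mem_preimage, Set.mem_singleton_iff, Subtype.mk.injEq, Set.mem_compl_iff]
    refine ⟨fun hzC => ?_, fun h hzC => ?_⟩
    · have hz' : z ∈ f ⁻¹' {P} := by simpa [hy] using hz
      rw [hSU] at hz'
      obtain ⟨s, hs, hzs⟩ := hz'
      by_cases hys : y ∈ s
      · rw [hone s hs hys] at hzs
        exact hzs
      · exact absurd ⟨s, ⟨hs, hys⟩, hzs⟩ hzC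
    · obtain ⟨s, hs, hzs⟩ := hzC
      exact hs.2 (h ▸ hzs)
  have hx := (Lib.ZMTIso.isOpen_singleton_asFiber_iff f y).2 hopen
  haveI hPn : IsIntegrallyClosed (X.presheaf.stalk (f y)) := (hnorm _).2
  obtain ⟨U, hU, hiso⟩ := S5094.result f (SurfSeq.map_generic f hbir) hbir (f y) hPn (f.asFiber y) hx
  haveI := hiso
  haveI : IsOpenImmersion ((f ⁻¹ᵁ U).ι ≫ f) := by rw [← morphismRestrict_ι]; infer_instance
  haveI : IsIso (f.stalkMap y) := PurBir.isIso_stalkMap_of_mem f (W := f ⁻¹ᵁ U) hU
  haveI := hregY y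
  refine hP ?_
  rw [← hy]
  exact IsRegularLocalRing.of_ringEquiv (asIso (f.stalkMap y)).commRingCatIsoToRingEquiv.symm

/-- Powers of an ideal without isolated zeros contain invertible ideals with the same support. -/
theorem exists_cartier_le {Y : Scheme.{u}} [IsIntegral Y] [IsNoetherian Y]
    (hreg : ∀ y : Y, IsRegularLocalRing (Y.presheaf.stalk y)) (hdim : topologicalKrullDim Y ≤ 2)
    (I : Y.IdealSheafData) (hI : I ≠ ⊥) (hne : (I.support : Set Y).Nonempty)
    (hgen : ∀ y ∈ (I.support : Set Y), IsClosed ({y} : Set Y) → ∃ z, z ⤳ y ∧ z ≠ y ∧ z ∈ (I.support : Set Y))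
    (k : ℕ) :
    ∃ W : Y.IdealSheafData, BlowUp.IsEffCartierIdeal W ∧ (W.support : Set Y).Nonempty ∧
      (W.support : Set Y) ⊆ (I.support : Set Y) ∧ W ≤ I ^ k := by
  obtain ⟨D, Q, hD, hQD, hQfin, hQpt⟩ := exists_cartier_factor Y hreg hdim I hI
  have hsI : ∀ y, sI I y = sI Q y * sI D y := fun y => by rw [hQD, sI_mul]
  have hor : ∀ y ∈ (I.support : Set Y), y ∈ (Q.support : Set Y) ∨ y ∈ (D.support : Set Y) := fun y hy => by
    rw [mem_support_iff, hsI] at hy
    by_contra hc
    rw [not_or] at hc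
    rw [sI_eq_top hc.1, sI_eq_top hc.2, Ideal.top_mul] at hy
    exact hy rfl
  have hQD' : (Q.support : Set Y) ⊆ (D.support : Set Y) := fun y hy => by
    have hyI : y ∈ (I.support : Set Y) := by
      rw [mem_support_iff, hsI]
      intro h
      exact (mem_support_iff Q y).1 hy (top_le_iff.1 (h ▸ Ideal.mul_le_left))
    obtain ⟨z, hzy, hne', hz⟩ := hgen y hyI (hQpt y hy).1
    refine hzy.mem_closed D.support.isClosed ?_
    refine (hor z hz).resolve_left fun hzQ => hne' ?_
    exact ((hQpt z hzQ).1.closure_eq.subset (specializes_iff_mem_closure.1 hzy)).symm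
  have hDI : (D.support : Set Y) ⊆ (I.support : Set Y) := fun y hy => by
    rw [mem_support_iff, hsI]
    intro h
    exact (mem_support_iff D y).1 hy (top_le_iff.1 (h ▸ Ideal.mul_le_right))
  obtain ⟨n, hn⟩ := IdSheafPow.exists_pow_le D Q (fun V => by
    haveI : IsNoetherianRing Γ(Y, V.1) := IsLocallyNoetherian.component_noetherian V
    exact IsNoetherian.noetherian _) hQD'
  have hsupp : ∀ y, sI ((D ^ (n + 1)) ^ (k + 1)) y = (sI D y) ^ ((n + 1) * (k + 1)) := fun y => by
    rw [sI_pow, sI_pow, ← pow_mul]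
  refine ⟨(D ^ (n + 1)) ^ (k + 1), isEffCartier_pow (isEffCartier_pow hD _) _, ?_, ?_, ?_⟩
  · obtain ⟨y, hy⟩ := hne
    obtain ⟨w, hw⟩ : (D.support : Set Y).Nonempty :=
      (hor y hy).elim (fun h => ⟨y, hQD' h⟩) fun h => ⟨y, h⟩
    refine ⟨w, (mem_support_iff _ w).2 fun h => (mem_support_iff D w).1 hw ?_⟩
    rw [hsupp] at h
    exact top_le_iff.1 (h ▸ Ideal.pow_le_self (by positivity))
  · intro y hy
    refine hDI ?_
    by_contra hc
    refine (mem_support_iff _ y).1 hy ?_
    rw [hsupp, sI_eq_top hc, Ideal.top_pow]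
  · refine le_of_sI fun y => ?_
    rw [sI_pow, sI_pow]
    calc (sI D y ^ (n + 1)) ^ (k + 1) ≤ (sI Q y * sI D y) ^ (k + 1) := by
          refine Ideal.pow_right_mono ?_ _
          rw [pow_succ, ← sI_pow]
          exact Ideal.mul_mono_left (sI_mono (hn n le_rfl) y)
      _ = sI I y ^ (k + 1) := by rw [hsI]
      _ ≤ sI (I ^ k) y := by
          rw [sI_pow]
          exact Ideal.pow_le_pow_right (Nat.le_succ k)

end Groth.Agent.ExcVan
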