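import Mathlib
import Groth.Agent.S0002
import Groth.Agent.FFun.Sup
import Groth.Agent.FFun.Main
import Groth.Agent.FFun.GoodM
import Groth.Agent.QCoh.CechLoc
import Groth.Agent.QCoh.DevissageP
import Groth.Agent.BlowUpLib.Local
import Groth.Agent.OmegaLib.IdealMod
import Groth.Agent.RelPC17.DimOne
import Groth.Agent.ClosedHom7.Basic

/-!
# Vanishing of `H¹(O)` from the thickened fibres
-/

set_option autoImplicit false
set_option linter.style.haveILetI false
set_option linter.unusedSectionVars false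
set_option backward.isDefEq.respectTransparency false
set_option backward.isDefEq.respectTransparency.types false
set_option maxHeartbeats 400000

universe u

open CategoryTheory CategoryTheory.Limits AlgebraicGeometry TopologicalSpace Opposite
open scoped TensorProduct

noncomputable section

namespace Groth.Agent.ExcVan

variable {A : Type u} [CommRing A] {Z : Scheme.{u}} [Z.Over (Spec (CommRingCat.of A))]

/-- The formal function theorem detects `H¹(O)` near the closed fibre. -/
theorem subsingleton_h1 [IsNoetherianRing A] [IsProper (Z ↘ Spec (CommRingCat.of A))] (m : Ideal A)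
    (hoff : ∀ a ∈ m, IsAffineOpen (Z.basicOpen (Coh.toGlobal (Z ↘ Spec (CommRingCat.of A)) a : Γ(Z, ⊤))))
    (hk : ∀ k, Subsingleton (Coh.HH Z (FFun.modJ (m ^ k) (Coh.structureModule Z)) 1)) :
    Subsingleton (Coh.HH Z (Coh.structureModule Z) 1) := by
  haveI : CompactSpace Z := QuasiCompact.compactSpace_of_compactSpace (Z ↘ Spec (CommRingCat.of A))
  haveI : IsLocallyNoetherian Z := LocallyOfFiniteType.isLocallyNoetherian (Z ↘ Spec (CommRingCat.of A))
  haveI : IsNoetherian Z := { __ := ‹IsLocallyNoetherian Z›, __ := ‹CompactSpace Z› }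
  haveI : Z.IsSeparated := ⟨by
    rw [show terminal.from Z = (Z ↘ Spec (CommRingCat.of A)) ≫ terminal.from _ from Subsingleton.elim _ _]
    infer_instance⟩
  have hO : Coh.IsCoh (Coh.structureModule Z) := QCoh.isCoh_structureModule'
  haveI : Module.Finite A (Coh.HH Z (Coh.structureModule Z) 1) := S0002.result A Z _ hO 1
  have hG := FFun.good_of_finite (X := Z) (Z := Set.univ) (fun N hN q => S0002.result A Z N hN.1 q) m
  have hle : (⊤ : Submodule A (Coh.HH Z (Coh.structureModule Z) 1)) ≤ m • ⊤ := fun x _ => by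
    obtain ⟨k, hk'⟩ := (hG _ (FFun.inCls_univ hO) 1).1 1
    haveI := hk k
    have h := hk' x (Subsingleton.elim _ _)
    rwa [pow_one] at h
  obtain ⟨r, hr, hrM⟩ := Submodule.exists_sub_one_mem_and_smul_eq_zero_of_fg_of_le_smul m _ Module.Finite.fg_top hle
  obtain ⟨e⟩ := QCoh.HH_localization (X := Z) (f := (Coh.toGlobal (Z ↘ Spec (CommRingCat.of A)) (r - 1) : Γ(Z, ⊤)))
    (QCoh.isQCoh_structureModule (X := Z)) 1
  haveI : IsAffine (Z.basicOpen (Coh.toGlobal (Z ↘ Spec (CommRingCat.of A)) (r - 1) : Γ(Z, ⊤))).toScheme := hoff _ hr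
  have hz : Subsingleton (Coh.HHon Z (Coh.structureModule Z)
      (Z.basicOpen (Coh.toGlobal (Z ↘ Spec (CommRingCat.of A)) (r - 1) : Γ(Z, ⊤))) 1) :=
    QCoh.subsingleton_HH_of_isAffine
      (QCoh.isQCoh_restrict (Z.basicOpen (Coh.toGlobal (Z ↘ Spec (CommRingCat.of A)) (r - 1) : Γ(Z, ⊤))).ι
        (QCoh.isQCoh_structureModule (X := Z))) 0
  refine subsingleton_of_forall_eq 0 fun x => ?_
  letI := QCoh.modHH (QCoh.idTop Z) (Coh.structureModule Z) 1
  set f : Γ(Z, ⊤) := Coh.toGlobal (Z ↘ Spec (CommRingCat.of A)) (r - 1) with hf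
  haveI : Subsingleton (Localization.Away f ⊗[Γ(Z, ⊤)] Coh.HH Z (Coh.structureModule Z) 1) := e.toEquiv.symm.subsingleton
  have hloc : IsLocalizedModule (Submonoid.powers f)
      ((TensorProduct.mk Γ(Z, ⊤) (Localization.Away f) (Coh.HH Z (Coh.structureModule Z) 1)) 1) :=
    (isLocalizedModule_iff_isBaseChange (Submonoid.powers f) (Localization.Away f) _).2 (TensorProduct.isBaseChange _ _ _)
  haveI := hloc
  obtain ⟨⟨_, n, rfl⟩, hn⟩ := (IsLocalizedModule.eq_zero_iff (Submonoid.powers f)
    ((TensorProduct.mk Γ(Z, ⊤) (Localization.Away f) (Coh.HH Z (Coh.structureModule Z) 1)) 1)).1 (Subsingleton.elim _ 0 :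
      ((TensorProduct.mk Γ(Z, ⊤) (Localization.Away f) (Coh.HH Z (Coh.structureModule Z) 1)) 1) x = 0)
  have hn' : (r - 1) ^ n • x = 0 := by
    refine Eq.trans ?_ hn
    show (Coh.toGlobal (Z ↘ Spec (CommRingCat.of A)) ((r - 1) ^ n)) • x = _
    rw [map_pow]
    rfl
  obtain ⟨c, hc⟩ := sub_dvd_pow_sub_pow (r - 1) (-1 : A) n
  have h1 : (r - 1) ^ n = (-1 : A) ^ n + c * r := by
    linear_combination hc
  rw [h1, add_smul, mul_smul, hrM x trivial, smul_zero, add_zero] at hn'
  have h3 := congrArg (fun y => (-1 : A) ^ n • y) hn'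
  simp only [smul_zero, ← mul_smul, ← mul_pow, neg_mul_neg, one_mul, one_pow, one_smul] at h3
  exact h3

/-- An ideal sheaf below the `J`-multiples kills the reduction modulo `J`. -/
theorem exists_desc (J : Ideal A) (K : Z.IdealSheafData)
    (hK : K ≤ (BlowUpLib.centre J).comap (Z ↘ Spec (CommRingCat.of A))) :
    ∃ e : ClSub.quotMod K ⟶ FFun.modJ J (Coh.structureModule Z), Epi e := by
  have h0 : ClSub.idealModι K ≫ FFun.modJπ J (Coh.structureModule Z) = 0 := by
    ext U s
    refine AModX.eq_of_locally (M := FFun.modJ J (Coh.structureModule Z)) _ _ fun p hp => ?_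
    obtain ⟨V, hV, hpV, hVU⟩ := exists_isAffineOpen_mem_and_subset (x := p) (U := U) hp
    refine ⟨V, hVU, hpV, ?_⟩
    rw [← AModX.app_res, ← AModX.app_res]
    have hmem := hK ⟨V, hV⟩ (OmegaLib.idealSect_mem K ⟨V, hV⟩ (AModX.res (ClSub.idealMod K) hVU s))
    rw [BlowUpLib.ideal_comap_centre] at hmem
    have hstr : BlowUpLib.strHom (Z ↘ Spec (CommRingCat.of A)) V = FFun.φsec (X := Z) (A := A) V := by
      ext a
      simp [BlowUpLib.strHom, FFun.φsec, Coh.toGlobal, Coh.resTop, Scheme.Hom.appLE]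
      rfl
    rw [hstr] at hmem
    have hsm : (show Γ(Coh.structureModule Z, V) from OmegaSh.idealSect K V (AModX.res (ClSub.idealMod K) hVU s)) ∈
        J.map (FFun.φsec (X := Z) (A := A) V) • (⊤ : Submodule Γ(Z, V) Γ(Coh.structureModule Z, V)) := by
      have h := Submodule.smul_mem_smul hmem (show (show Γ(Coh.structureModule Z, V) from (1 : Γ(Z, V))) ∈
        (⊤ : Submodule Γ(Z, V) Γ(Coh.structureModule Z, V)) from trivial)
      convert h using 1
      exact (mul_one (OmegaSh.idealSect K V (AModX.res (ClSub.idealMod K) hVU s) : Γ(Z, V))).symm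
    exact FFun.π_app_eq_zero (Coh.structureModule Z) J V hsm
  haveI := ClosedHom7.epi_toSubscheme K
  refine ⟨Abelian.epiDesc (ClSub.toSubscheme K) (FFun.modJπ J (Coh.structureModule Z)) h0, ?_⟩
  exact epi_of_epi_fac (Abelian.comp_epiDesc (ClSub.toSubscheme K) (FFun.modJπ J (Coh.structureModule Z)) h0)

end Groth.Agent.ExcVan
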