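import Mathlib
import Groth.Agent.ExcVan.Basic
import Groth.Agent.ExcVan.Cartier
import Groth.Agent.ExcVan.Formal
import Groth.Agent.RelPC17.HighVanish
import Groth.Agent.RelPC17.BirFibre
import Groth.Agent.RelPC17.Closed
import Groth.Agent.Lib.DivisorExt
import Groth.Agent.H28.BlowHH
import Groth.Agent.BlowUpLib.Glue
import Groth.Agent.KFlatLib.Scheme.RpushRestrict
import Groth.Agent.S8914
import Groth.Agent.RegRes.Seq

/-!
# Rationality through exceptional divisors
-/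

set_option autoImplicit false
set_option linter.style.haveILetI false
set_option linter.unusedSectionVars false
set_option backward.isDefEq.respectTransparency false
set_option backward.isDefEq.respectTransparency.types false
set_option maxHeartbeats 800000

universe u

open CategoryTheory CategoryTheory.Limits AlgebraicGeometry TopologicalSpace Opposite
open Groth.Agent.H23.StalkIdeal

noncomputable section

namespace Groth.Agent.ExcVan

/-- Cohomology of the structure sheaf along an isomorphism. -/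
theorem hh_iso_iff {A B : Scheme.{u}} (h : A ⟶ B) [IsIso h] (n : ℕ) :
    Subsingleton (Coh.HH A (Coh.structureModule A) n) ↔ Subsingleton (Coh.HH B (Coh.structureModule B) n) := by
  haveI := DivisorExt.isIso_unitToPush h
  obtain ⟨e⟩ := QCoh.HH_push_of_isAffineHom h (QCoh.isQCoh_structureModule (X := A)) n
  refine ⟨fun hh => ?_, fun hh => ?_⟩
  · exact QCoh.subsingleton_HH_of_iso (asIso (ClSub.unitToPush h)).symm n e.symm.toEquiv.subsingleton
  · haveI := QCoh.subsingleton_HH_of_iso (asIso (ClSub.unitToPush h)) n hh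
    exact e.toEquiv.subsingleton

/-- The cohomology of a closed subscheme inside an open. -/
theorem hh_quot_iff {Y : Scheme.{u}} (V : Y.Opens) (W : Y.IdealSheafData) (hW : (W.support : Set Y) ⊆ V) (n : ℕ) :
    Subsingleton (Coh.HH Y (ClSub.quotMod W) n) ↔
      Subsingleton (Coh.HH V.toScheme (ClSub.quotMod (W.comap V.ι)) n) := by
  haveI : IsSplitEpi (pullback.snd V.ι W.subschemeι) := by
    have hr : Set.range W.subschemeι ⊆ Set.range V.ι := by
      rw [Scheme.Opens.range_ι, W.range_subschemeι]; exact hW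
    exact IsSplitEpi.mk' ⟨pullback.lift (IsOpenImmersion.lift V.ι W.subschemeι hr) (𝟙 _)
      (by rw [IsOpenImmersion.lift_fac, Category.id_comp]), pullback.lift_snd _ _ _⟩
  haveI : IsIso (pullback.snd V.ι W.subschemeι) := isIso_of_mono_of_isSplitEpi _
  haveI : IsIso ((W.comapIso V.ι).hom ≫ pullback.snd V.ι W.subschemeι) := inferInstance
  obtain ⟨e₁⟩ := QCoh.HH_push_of_isAffineHom W.subschemeι (QCoh.isQCoh_structureModule (X := W.subscheme)) n
  obtain ⟨e₂⟩ := QCoh.HH_push_of_isAffineHom (W.comap V.ι).subschemeι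
    (QCoh.isQCoh_structureModule (X := (W.comap V.ι).subscheme)) n
  have h := hh_iso_iff ((W.comapIso V.ι).hom ≫ pullback.snd V.ι W.subschemeι) n
  exact ⟨fun hh => (haveI := h.2 (haveI := hh; e₁.toEquiv.subsingleton); e₂.toEquiv.symm.subsingleton),
    fun hh => (haveI := h.1 (haveI := hh; e₂.toEquiv.subsingleton); e₁.toEquiv.symm.subsingleton)⟩

variable {X Y : Scheme.{u}} [IsIntegral X] [IsIntegral Y] [IsNoetherian X]
  (hdim : topologicalKrullDim X ≤ 2) {P : X} (hPc : IsClosed ({P} : Set X))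
  (f : Y ⟶ X) [IsProper f] (hiso : IsIso (f ∣_ ⟨({P} : Set X)ᶜ, hPc.isOpen_compl⟩))

include hdim hiso in
/-- Fibres over affine opens have dimension at most one. -/
theorem fibre_dim {U : X.Opens} (hU : IsAffineOpen U) (hne : ¬ (U : Set X) ⊆ {P}) (s : ↥U.toScheme) :
    topologicalKrullDim ↥((f ∣_ U).fiber s) ≤ (1 : ℕ) := by
  haveI : Nonempty U := by
    obtain ⟨x, hx, -⟩ := Set.not_subset.1 hne
    exact ⟨⟨x, hx⟩⟩
  haveI : IsIntegral U.toScheme := isIntegral_of_isOpenImmersion U.ι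
  let W : X.Opens := ⟨({P} : Set X)ᶜ, hPc.isOpen_compl⟩
  haveI : IsIso (f ∣_ (U ⊓ W)) := PointBlow.isIso_restrict_mono f (U := W) inf_le_right
  haveI : IsIso (f ∣_ U ∣_ (U.ι ⁻¹ᵁ W)) := by
    have h : MorphismProperty.isomorphisms Scheme (f ∣_ (U.ι ''ᵁ (U.ι ⁻¹ᵁ W))) := by
      rw [(MorphismProperty.isomorphisms Scheme).arrow_mk_iso_iff (morphismRestrictEq f
        (show U.ι ''ᵁ (U.ι ⁻¹ᵁ W) = U ⊓ W by rw [U.ι.image_preimage_eq_opensRange_inf, U.opensRange_ι]))]
      exact ‹IsIso (f ∣_ (U ⊓ W))›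
    exact ((MorphismProperty.isomorphisms Scheme).arrow_mk_iso_iff (morphismRestrictRestrict f U _)).2 h
  obtain ⟨x, hx, hxP⟩ := Set.not_subset.1 hne
  have hd : topologicalKrullDim ↥U.toScheme ≤ (2 : ℕ) :=
    (U.ι.isOpenEmbedding.isInducing.topologicalKrullDim_le).trans (by exact_mod_cast hdim)
  haveI : IrreducibleSpace ↥(f ⁻¹ᵁ U).toScheme := by
    haveI : Nonempty (f ⁻¹ᵁ U : Y.Opens) := by
      haveI : IsIso (f ∣_ W) := hiso
      obtain ⟨y, hy⟩ := (f ∣_ W).homeomorph.surjective ⟨x, hxP⟩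
      refine ⟨⟨y.1, ?_⟩⟩
      have : f y.1 = x := (morphismRestrict_base_coe f W y).symm.trans (congrArg Subtype.val hy)
      show f y.1 ∈ U
      rw [this]; exact hx
    haveI : IsIntegral (f ⁻¹ᵁ U).toScheme := isIntegral_of_isOpenImmersion (f ⁻¹ᵁ U).ι
    infer_instance
  exact RelPC17.BirFibre.fibre_dim_le_one (f ∣_ U) hd (U.ι ⁻¹ᵁ W) ⟨⟨x, hx⟩, hxP⟩ s

include hdim hiso in
/-- Rationality gives vanishing on exceptional divisors. -/
theorem h1_quot_of_rz (h : IsZero ((Coh.RpushAb f 1).obj (Coh.toAb (Coh.structureModule Y))))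
    (hPdim : ∀ U : X.Opens, P ∈ U → ¬ (U : Set X) ⊆ {P})
    (W : Y.IdealSheafData) (hW : (W.support : Set Y) ⊆ f.base ⁻¹' {P}) :
    Subsingleton (Coh.HH Y (ClSub.quotMod W) 1) := by
  obtain ⟨U, hU, hPU, -⟩ := exists_isAffineOpen_mem_and_subset (x := P) (U := ⊤) trivial
  have h1 := H28.BlowHH.hh_of_rz f (QCoh.isQCoh_structureModule (X := Y)) 0 h hU
  have h2 : Subsingleton (Coh.HH (f ⁻¹ᵁ U).toScheme (Coh.structureModule _) 1) :=
    QCoh.subsingleton_HH_of_iso (RelPC17.restrictStructureIso (f ⁻¹ᵁ U).ι) 1 h1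
  rw [hh_quot_iff (f ⁻¹ᵁ U) W (fun y hy => by
    have : f y = P := hW hy
    show f y ∈ U
    rw [this]; exact hPU) 1]
  haveI : IsAffine U.toScheme := hU
  haveI := ClosedHom7.epi_toSubscheme (W.comap (f ⁻¹ᵁ U).ι)
  exact (RelPC17.DimOne.hmap_surjective (f ∣_ U) (fibre_dim hdim hPc f hiso hU (hPdim U hPU))
    (ClSub.toSubscheme (W.comap (f ⁻¹ᵁ U).ι)) (QCoh.isQCoh_structureModule (X := (f ⁻¹ᵁ U).toScheme))
    (QCoh.isQCoh_pushforward _ (QCoh.isQCoh_structureModule (X := (W.comap (f ⁻¹ᵁ U).ι).subscheme)))).subsingleton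

include hdim hiso in
/-- Vanishing on exceptional divisors gives rationality. -/
theorem rz_of_h1_quot (hregY : ∀ y : Y, IsRegularLocalRing (Y.presheaf.stalk y)) (hdimY : topologicalKrullDim Y ≤ 2)
    (hnorm : Pi1.IsNormalScheme X) (hP : ¬ IsRegularLocalRing (X.presheaf.stalk P))
    (hPdim : ∀ U : X.Opens, P ∈ U → ¬ (U : Set X) ⊆ {P})
    (hW : ∀ W : Y.IdealSheafData, PicF.IsInvertible (ClSub.idealMod W) → (W.support : Set Y).Nonempty →
      (W.support : Set Y) ⊆ f.base ⁻¹' {P} → Subsingleton (Coh.HH Y (ClSub.quotMod W) 1)) :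
    IsZero ((Coh.RpushAb f 1).obj (Coh.toAb (Coh.structureModule Y))) := by
  classical
  haveI : CompactSpace Y := QuasiCompact.compactSpace_of_compactSpace f
  haveI : IsLocallyNoetherian Y := LocallyOfFiniteType.isLocallyNoetherian f
  haveI : IsNoetherian Y := { __ := ‹IsLocallyNoetherian Y›, __ := ‹CompactSpace Y› }
  obtain ⟨U₀, hU₀, hPU₀, -⟩ := exists_isAffineOpen_mem_and_subset (x := P) (U := ⊤) trivial
  let Wc : X.Opens := ⟨({P} : Set X)ᶜ, hPc.isOpen_compl⟩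
  refine AmpleVan.RelVanish.isZero_RpushAb_of_cover f (QCoh.isQCoh_structureModule (X := Y))
    {W : X.affineOpens | W.1 ≤ Wc ∨ W.1 = U₀} (fun x => ?_) ?_ 1 one_pos
  · by_cases hx : x = P
    · exact ⟨⟨U₀, hU₀⟩, Or.inr rfl, hx ▸ hPU₀⟩
    · obtain ⟨W, hW', hxW, hle⟩ := exists_isAffineOpen_mem_and_subset (x := x) (U := Wc) hx
      exact ⟨⟨W, hW'⟩, Or.inl hle, hxW⟩
  rintro ⟨U, hU⟩ (hle | rfl) q
  · haveI : IsIso (f ∣_ U) := PointBlow.isIso_restrict_mono f (U := Wc) hle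
    haveI : IsAffine U.toScheme := hU
    haveI : IsAffine (f ⁻¹ᵁ U).toScheme := IsAffine.of_isIso (f ∣_ U)
    exact QCoh.subsingleton_HH_of_isAffine
      (QCoh.isQCoh_restrict (f ⁻¹ᵁ U).ι (QCoh.isQCoh_structureModule (X := Y))) q
  haveI : IsAffine U.toScheme := hU
  have hd := fibre_dim hdim hPc f hiso hU (hPdim U hPU₀)
  refine QCoh.subsingleton_HH_of_iso (RelPC17.restrictStructureIso (f ⁻¹ᵁ U).ι).symm (q + 1) ?_
  rcases q with _ | q
  swap
  · exact RelPC17.HighVanish.subsingleton_HH_of_fibre_dim (f ∣_ U) 1 hd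
      (QCoh.isQCoh_structureModule (X := (f ⁻¹ᵁ U).toScheme)) _ (by omega)
  letI : (f ⁻¹ᵁ U).toScheme.Over (Spec (CommRingCat.of Γ(X, U))) := ⟨(f ∣_ U) ≫ hU.isoSpec.hom⟩
  haveI : IsProper ((f ⁻¹ᵁ U).toScheme ↘ Spec (CommRingCat.of Γ(X, U))) :=
    inferInstanceAs (IsProper ((f ∣_ U) ≫ hU.isoSpec.hom))
  haveI : IsNoetherianRing Γ(X, U) := IsLocallyNoetherian.component_noetherian ⟨U, hU⟩
  set g := (f ⁻¹ᵁ U).toScheme ↘ Spec (CommRingCat.of Γ(X, U)) with hg
  have hfac : g ≫ hU.fromSpec = (f ⁻¹ᵁ U).ι ≫ f := by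
    show ((f ∣_ U) ≫ hU.isoSpec.hom) ≫ hU.fromSpec = _
    rw [Category.assoc, IsAffineOpen.isoSpec_hom_fromSpec, morphismRestrict_ι]
  set I := Scheme.IdealSheafData.vanishingIdeal (⟨{P}, hPc⟩ : Closeds X) with hI
  have hIs : (I.support : Set X) = {P} := rfl
  refine subsingleton_h1 (A := Γ(X, U)) (I.ideal ⟨U, hU⟩) (fun a ha => ?_) (fun k => ?_)
  · have hD : X.basicOpen a ≤ Wc := fun x hx (hxP : x = P) => by
      obtain ⟨p, hp⟩ : x ∈ Set.range I.subschemeι := by rw [I.range_subschemeι, hIs]; exact hxP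
      have h0 : I.subschemeι.app U a = 0 := by
        rw [← RingHom.mem_ker]
        exact (I.ker_subschemeι_app ⟨U, hU⟩).symm ▸ ha
      have h1 : p ∈ I.subscheme.basicOpen (I.subschemeι.app U a) := by
        rw [← Scheme.preimage_basicOpen]
        show I.subschemeι p ∈ X.basicOpen a
        rw [hp]; exact hx
      rw [h0, Scheme.basicOpen_zero] at h1
      exact h1
    haveI : IsIso (f ∣_ X.basicOpen a) := PointBlow.isIso_restrict_mono f (U := Wc) hD
    haveI : IsAffine (X.basicOpen a).toScheme := hU.basicOpen a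
    have haff : IsAffineOpen (f ⁻¹ᵁ X.basicOpen a) := IsAffine.of_isIso (f ∣_ X.basicOpen a)
    have hsec : (f ⁻¹ᵁ U).toScheme.basicOpen (Coh.toGlobal g a : Γ((f ⁻¹ᵁ U).toScheme, ⊤)) =
        (f ⁻¹ᵁ U).ι ⁻¹ᵁ (f ⁻¹ᵁ X.basicOpen a) := by
      show (f ⁻¹ᵁ U).toScheme.basicOpen (g.appTop ((Scheme.ΓSpecIso (CommRingCat.of Γ(X, U))).inv a)) = _
      rw [← Scheme.Hom.comp_preimage, ← hfac, Scheme.Hom.comp_preimage, IsAffineOpen.fromSpec_preimage_basicOpen']
      exact (Scheme.preimage_basicOpen _ _).symm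
    have himg : (f ⁻¹ᵁ U).ι ''ᵁ ((f ⁻¹ᵁ U).toScheme.basicOpen (Coh.toGlobal g a : Γ((f ⁻¹ᵁ U).toScheme, ⊤))) =
        f ⁻¹ᵁ X.basicOpen a := by
      rw [hsec, Scheme.Hom.image_preimage_eq_opensRange_inf, Scheme.Opens.opensRange_ι]
      exact inf_eq_right.2 (f.preimage_mono (X.basicOpen_le a))
    exact ((f ⁻¹ᵁ U).ι.isAffineOpen_iff_of_isOpenImmersion).1 (himg ▸ haff)
  · obtain ⟨y₀, hy₀⟩ : (f ⁻¹' {P}).Nonempty := by
      have hs : Function.Surjective f := RegRes.surjective f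
        (RegRes.isIso_generic_of_restrict f Wc (by
          obtain ⟨x, -, hx⟩ := Set.not_subset.1 (hPdim U hPU₀)
          exact ⟨x, hx⟩))
      exact ⟨(hs P).choose, (hs P).choose_spec⟩
    set J := I.comap f with hJ
    have hJs : ∀ y : Y, y ∈ (J.support : Set Y) ↔ f y = P := fun y => by
      rw [hJ, Scheme.IdealSheafData.support_comap]
      exact Iff.rfl
    have hbir : IsIso (f.stalkMap (genericPoint Y)) := RegRes.isIso_generic_of_restrict f Wc (by
      obtain ⟨x, -, hx⟩ := Set.not_subset.1 (hPdim U hPU₀)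
      exact ⟨x, hx⟩)
    have hJ0 : J ≠ ⊥ := fun h => by
      have hgen : f (genericPoint Y) = P := (hJs _).1 (by rw [h, Scheme.IdealSheafData.support_bot]; trivial)
      rw [SurfSeq.map_generic f hbir] at hgen
      obtain ⟨x, -, hx⟩ := Set.not_subset.1 (hPdim U hPU₀)
      exact hx ((hgen ▸ genericPoint_specializes x : P ⤳ x).mem_closed hPc rfl)
    obtain ⟨W, hWc, hWne, hWs, hWle⟩ := exists_cartier_le hregY hdimY J hJ0 ⟨y₀, (hJs _).2 hy₀⟩
      (fun y hy hyc => by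
        obtain ⟨z, hz, hne, hzP⟩ := exists_generization hnorm hPc hP f hregY hbir ((hJs y).1 hy) hyc
        exact ⟨z, hz, hne, (hJs z).2 hzP⟩) k
    have hsub : (W.support : Set Y) ⊆ f.base ⁻¹' {P} := fun y hy => (hJs y).1 (hWs hy)
    haveI hK : Subsingleton (Coh.HH (f ⁻¹ᵁ U).toScheme (ClSub.quotMod (W.comap (f ⁻¹ᵁ U).ι)) 1) :=
      (hh_quot_iff _ W (fun y hy => show f y ∈ U by rw [show f y = P from hsub hy]; exact hPU₀) 1).1
        (hW W ((S8914.result W).2 hWc) hWne hsub)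
    have hle : W.comap (f ⁻¹ᵁ U).ι ≤ (BlowUpLib.centre (I.ideal ⟨U, hU⟩ ^ k)).comap g := by
      refine ((Scheme.IdealSheafData.map_gc _).monotone_l hWle).trans (le_of_eq ?_)
      rw [PointBlow.comap_pow, hJ, ← Scheme.IdealSheafData.comap_comp, ← hfac, Scheme.IdealSheafData.comap_comp,
        BlowUpLib.comap_fromSpec I ⟨U, hU⟩, ← PointBlow.comap_pow, ← PointBlow.centre_pow]
    obtain ⟨e, he⟩ := exists_desc (A := Γ(X, U)) (I.ideal ⟨U, hU⟩ ^ k) _ hle
    haveI := he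
    exact (RelPC17.DimOne.hmap_surjective (f ∣_ U) hd e
      (QCoh.isQCoh_pushforward _ (QCoh.isQCoh_structureModule (X := (W.comap (f ⁻¹ᵁ U).ι).subscheme)))
      (FFun.isCoh_modJ _ (by
        haveI : IsLocallyNoetherian (f ⁻¹ᵁ U).toScheme := inferInstance
        exact QCoh.isCoh_structureModule')).1).subsingleton

end Groth.Agent.ExcVan
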